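import Cfsg.Agent.H116.RatB0.StB0
import Cfsg.Agent.H167.AltRGD
import Cfsg.Agent.H554.RGNo
import Cfsg.Agent.H145.BR.Defs
import Cfsg.Agent.FastGrp
import Cfsg.Agent.Prune
set_option linter.all false

section
prune_inst 0x7f00000000000000000000000000000000000000000000000000000000000000000000000000000000000000000000000000000000000000000000000000000000000000000000000000000000000000003fffffffffffffffffffffffffffbeffbdffffffff

-- part: H116/RatB0/StRow
section
set_option linter.all false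
open scoped Cfsg.Agent.FastGrp

/-!
# The Steinberg character as a rational invariant character in the principal block (helper116)

`exists_st`: for a finite group `S` with a root group datum of characteristic `r` and a prime `p ≠ r`: if for every
proper parabolic subgroup `P_J` either `p` divides `|S : P_J|` or a `p`-subgroup of `P_J` has its centralizer in `P_J`,
then the Steinberg character lies in the principal `p`-block; it is integer valued, of degree `|U|`, and invariant
under all automorphisms.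
-/

set_option autoImplicit false
set_option linter.unusedSectionVars false

namespace Cfsg.Agent.H116.RatB0

open Cfsg CoxeterSystem Cfsg.Agent.ChevalleyStructure.CoxeterGeom Cfsg.Agent.Tits.Roots Cfsg.Agent.Tits.Core
  Cfsg.Agent.Tits.Exchange Cfsg.Agent.Nodes.Reps Cfsg.Agent.Nodes.BNOf Cfsg.Agent.Nodes.StabComb
  Cfsg.Agent.Nodes.Bruhat Cfsg.Agent.Nodes.OppDec Cfsg.Agent.Nodes.LeviDec Cfsg.Agent.Nodes.NormalForm
  Cfsg.Agent.KFacts.RgdOpp Cfsg.Agent.KFacts.RgdAut Cfsg.Agent.KFacts.RgdDiag Cfsg.Agent.H554.RG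

universe u

variable {I W : Type*} {S : Type u} [Fintype I] [DecidableEq I] [Group W] [Group S] {M : CoxeterMatrix I}
  {cs : CoxeterSystem M W} {A : I → I → ℤ} {h : IsCartan M A} {r : ℕ} {T : Subgroup S} {n : I → S}
  {X : (I → ℤ) → Subgroup S} (R : RGD cs h r T n X)

/-- the permutation character of the image of a subgroup under an automorphism -/
theorem fix_map (a : MulAut S) (H : Subgroup S) (g : S) :
    fixedPointCharacter (H.map a.toMonoidHom) (a g) = fixedPointCharacter H g := by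
  unfold fixedPointCharacter
  congr 1
  symm
  refine Nat.card_congr (Equiv.ofBijective (fun x => ⟨Quotient.map' (s₁ := QuotientGroup.leftRel H)
    (s₂ := QuotientGroup.leftRel (H.map a.toMonoidHom)) (fun y => a y) ?_ x.1, ?_⟩) ⟨?_, ?_⟩)
  · intro y z hyz
    rw [QuotientGroup.leftRel_apply] at hyz ⊢
    exact ⟨_, hyz, by simp⟩
  · obtain ⟨x, hx⟩ := x
    obtain ⟨y, rfl⟩ := QuotientGroup.mk_surjective x
    have h1 : (QuotientGroup.mk (g * y) : S ⧸ H) = QuotientGroup.mk y := hx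
    rw [eq_comm, QuotientGroup.eq] at h1
    show (QuotientGroup.mk (a g * a y) : S ⧸ H.map a.toMonoidHom) = QuotientGroup.mk (a y)
    rw [eq_comm, QuotientGroup.eq]
    exact ⟨_, h1, by simp⟩
  · rintro ⟨x, hx⟩ ⟨x', hx'⟩ e
    obtain ⟨y, rfl⟩ := QuotientGroup.mk_surjective x
    obtain ⟨y', rfl⟩ := QuotientGroup.mk_surjective x'
    have h1 : (QuotientGroup.mk (a y) : S ⧸ H.map a.toMonoidHom) = QuotientGroup.mk (a y') := congrArg Subtype.val e
    rw [QuotientGroup.eq] at h1
    obtain ⟨z, hz, hz'⟩ := h1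
    apply Subtype.ext
    show (QuotientGroup.mk y : S ⧸ H) = QuotientGroup.mk y'
    rw [QuotientGroup.eq]
    have h2 : z = y⁻¹ * y' := a.injective (by rw [map_mul, map_inv]; exact hz')
    rw [← h2]
    exact hz
  · rintro ⟨x, hx⟩
    obtain ⟨y, rfl⟩ := QuotientGroup.mk_surjective x
    have h1 : (QuotientGroup.mk (a g * y) : S ⧸ H.map a.toMonoidHom) = QuotientGroup.mk y := hx
    rw [eq_comm, QuotientGroup.eq] at h1
    obtain ⟨z, hz, hz'⟩ := h1
    have h2 : z = (a⁻¹ y)⁻¹ * (g * a⁻¹ y) := by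
      apply a.injective
      rw [map_mul, map_inv, map_mul, MulAut.apply_inv_self]
      exact hz'
    refine ⟨⟨QuotientGroup.mk (a⁻¹ y), ?_⟩, ?_⟩
    · show (QuotientGroup.mk (g * a⁻¹ y) : S ⧸ H) = QuotientGroup.mk (a⁻¹ y)
      rw [eq_comm, QuotientGroup.eq, ← h2]
      exact hz
    · apply Subtype.ext
      show (QuotientGroup.mk (a (a⁻¹ y)) : S ⧸ H.map a.toMonoidHom) = QuotientGroup.mk y
      rw [MulAut.apply_inv_self]

/-- the permutation character does not change under conjugation -/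
theorem fix_conj (s : S) (H : Subgroup S) (g : S) :
    fixedPointCharacter (H.map (MulAut.conj s).toMonoidHom) g = fixedPointCharacter H g := by
  have h1 := fix_map (MulAut.conj s) H (s⁻¹ * g * s)
  have h2 : MulAut.conj s (s⁻¹ * g * s) = g := by rw [MulAut.conj_apply]; group
  rw [h2] at h1
  rw [h1]
  unfold fixedPointCharacter
  congr 1
  refine Nat.card_congr (Equiv.ofBijective (fun x => ⟨s • x.1, ?_⟩) ⟨?_, ?_⟩)
  · show g • s • x.1 = s • x.1
    have h3 : (s⁻¹ * g * s) • x.1 = x.1 := x.2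
    have h4 : s • (s⁻¹ * g * s) • x.1 = g • s • x.1 := by
      rw [← mul_smul, ← mul_smul]
      congr 1
      group
    rw [← h4, h3]
  · rintro ⟨x, hx⟩ ⟨y, hy⟩ e
    exact Subtype.ext (smul_left_cancel s (congrArg Subtype.val e))
  · rintro ⟨x, hx⟩
    refine ⟨⟨s⁻¹ • x, ?_⟩, Subtype.ext (smul_inv_smul s x)⟩
    show (s⁻¹ * g * s) • s⁻¹ • x = s⁻¹ • x
    rw [← mul_smul]
    have h3 : s⁻¹ * g * s * s⁻¹ = s⁻¹ * g := by group
    rw [h3, mul_smul]
    have h4 : g • x = x := hx
    rw [h4]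

include R in
theorem sup_eq_PJ [Finite W] (hG : GG cs h T X = ⊤) (K : Set I) :
    RGD.B cs h T X ⊔ Subgroup.closure (n '' K) = PJ cs h T X K := by
  have h1 := eq_PJ R hG (P := RGD.B cs h T X ⊔ Subgroup.closure (n '' K)) le_sup_left
  apply le_antisymm
  · refine sup_le B_le_PJ ?_
    rw [Subgroup.closure_le]
    rintro _ ⟨i, hi, rfl⟩
    exact (n_mem_PJ_iff R).mpr hi
  · rw [h1]
    apply PJ_mono R
    intro i hi
    exact Subgroup.mem_sup_right (Subgroup.subset_closure ⟨i, hi, rfl⟩)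

include R in
theorem hgen_of_GG [Finite W] (hG : GG cs h T X = ⊤) : RGD.B cs h T X ⊔ NN cs R.nsys = ⊤ := by
  have h1 := eq_PJ R hG (P := RGD.B cs h T X ⊔ NN cs R.nsys) le_sup_left
  rw [h1, PJ_eq_top_iff R hG, Set.eq_univ_iff_forall]
  intro i
  exact Subgroup.mem_sup_right ⟨cs.simple i, rp_simple cs R.nsys i⟩

include R in
/-- the Steinberg character as an alternating sum over the parabolic subgroups -/
theorem exists_char_PJ [Finite W] [Finite S] (hG : GG cs h T X = ⊤) :
    IsIrrCharacter S (fun g => ∑ K ∈ (Finset.univ : Finset I).powerset, (-1 : ℂ) ^ K.card *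
      fixedPointCharacter (PJ cs h T X (K : Set I)) g) ∧
    (∑ K ∈ (Finset.univ : Finset I).powerset, (-1 : ℂ) ^ K.card *
      fixedPointCharacter (PJ cs h T X (K : Set I)) 1) = (Nat.card (RGD.Sup X (RGD.Pos cs h)) : ℂ) := by
  obtain ⟨h1, h2⟩ := H167.AltRGD.exists_char_alt R (hgen_of_GG R hG)
  have h3 := h2 1 (one_mem _)
  simp only [sup_eq_PJ R hG] at h1 h3
  refine ⟨h1, h3.trans ?_⟩
  congr 1
  exact Nat.card_congr ⟨fun u => u.1, fun u => ⟨u, by simp⟩, fun u => rfl, fun u => rfl⟩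

include R in
/-- the sum is invariant under automorphisms -/
theorem sum_PJ_aut [Finite W] [Finite S] [Fact r.Prime] (hG : GG cs h T X = ⊤) (a : MulAut S) (g : S) :
    (∑ K ∈ (Finset.univ : Finset I).powerset, (-1 : ℂ) ^ K.card *
      fixedPointCharacter (PJ cs h T X (K : Set I)) (a g)) =
    ∑ K ∈ (Finset.univ : Finset I).powerset, (-1 : ℂ) ^ K.card *
      fixedPointCharacter (PJ cs h T X (K : Set I)) g := by
  classical
  obtain ⟨s, σ, hσ⟩ := exists_std_conj R hG a
  have key : ∀ K : Finset I, fixedPointCharacter (PJ cs h T X ((K.map σ.toEmbedding : Finset I) : Set I)) (a g) =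
      fixedPointCharacter (PJ cs h T X (K : Set I)) g := by
    intro K
    rw [← fix_map (MulAut.conj s * a) (PJ cs h T X (K : Set I)) g, map_PJ R hG hσ, Finset.coe_map]
    have h1 : (MulAut.conj s * a) g = MulAut.conj s (a g) := rfl
    rw [h1]
    have h2 := fix_map (MulAut.conj s) (PJ cs h T X (σ '' (K : Set I))) (a g)
    have h3 := fix_conj s (PJ cs h T X (σ '' (K : Set I))) (MulAut.conj s (a g))
    exact h2.symm.trans h3
  symm
  refine Finset.sum_bij' (fun K _ => K.map σ.toEmbedding) (fun K _ => K.map σ.symm.toEmbedding) ?_ ?_ ?_ ?_ ?_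
  · intro K _; exact Finset.mem_powerset.2 (Finset.subset_univ _)
  · intro K _; exact Finset.mem_powerset.2 (Finset.subset_univ _)
  · intro K _
    rw [Finset.map_map]
    ext x
    simp
  · intro K _
    rw [Finset.map_map]
    ext x
    simp
  · intro K _
    rw [key, Finset.card_map]

include R in
/-- **The Steinberg character in the principal block.** -/
theorem exists_st [Finite W] [Finite S] [hr : Fact r.Prime] (hG : GG cs h T X = ⊤) {p : ℕ} [hp : Fact p.Prime]
    (hpr : p ≠ r) {M : Ideal AlgInt} (hM : IsPModular p M)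
    (hJ : ∀ J : Finset I, J ≠ Finset.univ → p ∣ (PJ cs h T X (J : Set I)).index ∨
      reg p (PJ cs h T X (J : Set I)) ≡ reg p (⊤ : Subgroup S) [MOD p]) :
    ∃ χ : IrrCharacter S, χ ∈ principalBlock M S ∧ (∀ g, ∃ z : ℤ, (χ : S → ℂ) g = z) ∧
      charDegree (χ : S → ℂ) = Nat.card (RGD.Sup X (RGD.Pos cs h)) ∧
      ∀ (a : MulAut S) (g : S), (χ : S → ℂ) (a g) = (χ : S → ℂ) g := by
  classical
  obtain ⟨h1, h2⟩ := exists_char_PJ R hG
  set χ : IrrCharacter S := ⟨_, h1⟩ with hχ
  have hval : ∀ g, (χ : S → ℂ) g = ∑ K ∈ (Finset.univ : Finset I).powerset, (((-1 : ℤ) ^ K.card : ℤ) : ℂ) *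
      fixedPointCharacter (PJ cs h T X (K : Set I)) g := by
    intro g
    show (∑ K ∈ (Finset.univ : Finset I).powerset, (-1 : ℂ) ^ K.card *
      fixedPointCharacter (PJ cs h T X (K : Set I)) g) = _
    refine Finset.sum_congr rfl fun K _ => ?_
    push_cast
    rfl
  have hdeg : charDegree (χ : S → ℂ) = Nat.card (RGD.Sup X (RGD.Pos cs h)) := by
    have h3 : (charDegree (χ : S → ℂ) : ℂ) = (χ : S → ℂ) 1 := (Blocks.Knorr.charDegree_eq χ.2).symm
    have h4 : (χ : S → ℂ) 1 = (Nat.card (RGD.Sup X (RGD.Pos cs h)) : ℂ) := h2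
    rw [h4] at h3
    exact_mod_cast h3
  have hp' : ¬ p ∣ charDegree (χ : S → ℂ) := by
    rw [hdeg]
    obtain ⟨Q, hQ⟩ := exists_sylow R hG
    have h3 := Q.isPGroup'
    obtain ⟨k, hk⟩ := IsPGroup.iff_card.1 h3
    rw [← hQ]
    intro h4
    rw [hk] at h4
    exact hpr ((Nat.prime_dvd_prime_iff_eq hp.out hr.out).1 (hp.out.dvd_of_dvd_pow h4))
  refine ⟨χ, ?_, ?_, hdeg, ?_⟩
  · refine mem_of_alt hM (Finset.univ : Finset I).powerset (fun K => (-1 : ℤ) ^ K.card)
      (fun K => PJ cs h T X (K : Set I)) χ hval hp' ?_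
    intro K _
    by_cases hK : K = Finset.univ
    · refine Or.inr ?_
      rw [hK, Finset.coe_univ, PJ_univ R hG]
    · exact hJ K hK
  · intro g
    refine ⟨∑ K ∈ (Finset.univ : Finset I).powerset, (-1 : ℤ) ^ K.card *
      (Nat.card (MulAction.fixedBy (S ⧸ PJ cs h T X (K : Set I)) g) : ℤ), ?_⟩
    rw [hval]
    push_cast
    rfl
  · intro a g
    exact sum_PJ_aut R hG a g

end Cfsg.Agent.H116.RatB0
end

-- part: H116/RatB0/RowRgd
section
set_option linter.all false
open scoped Cfsg.Agent.FastGrp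

/-!
# The rows of S4891 given by the Steinberg character (helper116)

* `cent_le_B` : a subgroup `Q` of the torus without fixed points on the positive root groups, not centralized by the
  representatives of the nontrivial elements of the Weyl group, has its centralizer in `B`;
* `rowInt_of_cent` : the row for `p ∣ q - 1`;
* `rowInt_of_index` : the row if `p` divides the indices of the maximal parabolic subgroups `P_{I - k}`.
-/

set_option autoImplicit false
set_option linter.unusedSectionVars false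

namespace Cfsg.Agent.H116.RatB0

open Cfsg CoxeterSystem Cfsg.Agent.ChevalleyStructure.CoxeterGeom Cfsg.Agent.Tits.Roots Cfsg.Agent.Tits.Core
  Cfsg.Agent.Tits.Exchange Cfsg.Agent.Nodes.Reps Cfsg.Agent.Nodes.BNOf Cfsg.Agent.Nodes.StabComb
  Cfsg.Agent.Nodes.Bruhat Cfsg.Agent.Nodes.OppDec Cfsg.Agent.Nodes.LeviDec Cfsg.Agent.Nodes.NormalForm
  Cfsg.Agent.KFacts.RgdOpp Cfsg.Agent.KFacts.RgdAut Cfsg.Agent.KFacts.RgdDiag Cfsg.Agent.H554.RG
open Cfsg.Agent.H145.BR (RowInt)

universe u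

variable {I W : Type*} {S : Type u} [Fintype I] [DecidableEq I] [Group W] [Group S] {M : CoxeterMatrix I}
  {cs : CoxeterSystem M W} {A : I → I → ℤ} {h : IsCartan M A} {r : ℕ} {T : Subgroup S} {n : I → S}
  {X : (I → ℤ) → Subgroup S} (R : RGD cs h r T n X)

include R

/-- **The centralizer of a subgroup of the torus.** -/
theorem cent_le_B [Finite W] (hG : GG cs h T X = ⊤) {Q : Subgroup S} (hQT : Q ≤ T)
    (hU : ∀ x, IsRoot cs h x → 0 ≤ x → ∀ u ∈ X x, (∀ q ∈ Q, q * u = u * q) → u = 1)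
    (hW : ∀ (w : W) (k : S), Rp cs R.nsys w k → (∀ q ∈ Q, q * k = k * q) → w = 1) :
    Subgroup.centralizer (Q : Set S) ≤ RGD.B cs h T X := by
  intro g hg
  obtain ⟨u, hu, w, k, hk, hkc, v, hv, rfl⟩ := mem_centralizer R (S := (Q : Set S)) hQT
    (by rw [hG]; exact Subgroup.mem_top g) hg
  have h1 : RGD.Sup (fun x => X x ⊓ Subgroup.centralizer (Q : Set S)) (RGD.Pos cs h) ≤ ⊥ := by
    refine RGD.Sup_le fun x hx => ?_
    intro y hy
    rw [Subgroup.mem_bot]
    exact hU x hx.1 hx.2 y hy.1 fun q hq => Subgroup.mem_centralizer_iff.1 hy.2 q hq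
  have hu1 : u = 1 := Subgroup.mem_bot.1 (h1 hu)
  have hv1 : v = 1 := Subgroup.mem_bot.1 (h1 hv)
  have hw := hW w k hk fun q hq => Subgroup.mem_centralizer_iff.1 hkc q hq
  subst hw
  rw [hu1, hv1, one_mul, mul_one]
  exact RGD.T_le_B hk.mem_of_one

/-- the degree of the Steinberg character is not one -/
theorem one_lt_card_U [Finite W] [Finite S] [Nonempty I] : 1 < Nat.card (RGD.Sup X (RGD.Pos cs h)) := by
  obtain ⟨i⟩ := ‹Nonempty I›
  obtain ⟨u, hu, hu1⟩ := exists_ne_one R i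
  rw [Finite.one_lt_card_iff_nontrivial, Subgroup.nontrivial_iff_exists_ne_one]
  exact ⟨u, RGD.le_Sup (S := RGD.Pos cs h) ⟨isRoot_sr cs h i, sr_nonneg i⟩ hu, hu1⟩

/-- the row from the condition on the parabolic subgroups -/
theorem rowInt_of [Finite W] [Finite S] [Nonempty I] [hr : Fact r.Prime] (hG : GG cs h T X = ⊤) {p : ℕ}
    [hp : Fact p.Prime] (hpr : p ≠ r) (hJ : ∀ J : Finset I, J ≠ Finset.univ → p ∣ (PJ cs h T X (J : Set I)).index ∨
      reg p (PJ cs h T X (J : Set I)) ≡ reg p (⊤ : Subgroup S) [MOD p]) : RowInt p S := by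
  intro M' hM
  obtain ⟨χ, h1, h2, h3, h4⟩ := exists_st R hG hpr hM hJ
  have h5 := one_lt_card_U R
  refine ⟨χ, h1, ?_, ?_, h2, h4⟩
  · intro h6
    have h7 : (charDegree (χ : S → ℂ) : ℂ) = (χ : S → ℂ) 1 := (Blocks.Knorr.charDegree_eq χ.2).symm
    rw [h3, h6] at h7
    have h7' : ((Nat.card (RGD.Sup X (RGD.Pos cs h)) : ℕ) : ℂ) = 1 := h7
    have h8 : Nat.card (RGD.Sup X (RGD.Pos cs h)) = 1 := by exact_mod_cast h7'
    omega
  · rw [h3]
    obtain ⟨Q, hQ⟩ := exists_sylow R hG
    obtain ⟨k, hk⟩ := IsPGroup.iff_card.1 Q.isPGroup'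
    rw [← hQ]
    intro h6
    rw [hk] at h6
    exact hpr ((Nat.prime_dvd_prime_iff_eq hp.out hr.out).1 (hp.out.dvd_of_dvd_pow h6))

/-- **The row from torus elements.** -/
theorem rowInt_of_cent [Finite W] [Finite S] [Nonempty I] [hr : Fact r.Prime] (hG : GG cs h T X = ⊤) {p : ℕ}
    [hp : Fact p.Prime] (hpr : p ≠ r) {Q : Subgroup S} (hQ : IsPGroup p Q) (hQT : Q ≤ T)
    (hU : ∀ x, IsRoot cs h x → 0 ≤ x → ∀ u ∈ X x, (∀ q ∈ Q, q * u = u * q) → u = 1)
    (hW : ∀ (w : W) (k : S), Rp cs R.nsys w k → (∀ q ∈ Q, q * k = k * q) → w = 1) : RowInt p S :=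
  rowInt_of R hG hpr fun _ _ => Or.inr (reg_modEq_of_le hQ ((hQT.trans RGD.T_le_B).trans B_le_PJ)
    ((cent_le_B R hG hQT hU hW).trans B_le_PJ))

/-- **The row from the indices of the maximal parabolic subgroups.** -/
theorem rowInt_of_index [Finite W] [Finite S] [Nonempty I] [hr : Fact r.Prime] (hG : GG cs h T X = ⊤) {p : ℕ}
    [hp : Fact p.Prime] (hpr : p ≠ r) (hJ : ∀ k : I, p ∣ (PJ cs h T X {j | j ≠ k}).index) : RowInt p S := by
  refine rowInt_of R hG hpr fun J hJ' => Or.inl ?_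
  obtain ⟨k, hk⟩ : ∃ k, k ∉ J := by
    by_contra hcon
    push Not at hcon
    exact hJ' (Finset.eq_univ_iff_forall.2 hcon)
  refine (hJ k).trans (Subgroup.index_dvd_of_le (PJ_mono R ?_))
  intro j hj hjk
  subst hjk
  exact hk hj

end Cfsg.Agent.H116.RatB0
end
end
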