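import Cfsg.Agent.H634.SdDef_m3
import Cfsg.Agent.H613.RegGram
import Cfsg.Agent.Blocks.RegularCount
import Cfsg.Agent.Blocks.PrincipalSection
import Cfsg.Agent.H139.Degree
import Cfsg.Agent.FastGrp
import Cfsg.Agent.Prune
set_option linter.all false

section
prune_inst 0x7f00000000000000000000000000000000000000000000000000000000000000000000000000000000000000000000000000000000000000000000000000000000000000000000000000000000000000003fffffffffffffffffffffffffffbeffbdffffffff

-- part: H893/Sd/MemIff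
section
set_option linter.all false
open scoped Cfsg.Agent.FastGrp

/-!
# S4579, R1: membership in the principal block (helper893)

`χ` lies in the principal `p`-block if and only if the sum of its values at the `p`-regular elements is not zero.
-/

set_option autoImplicit false

open Cfsg
open scoped ComplexConjugate

namespace Cfsg.Agent.H893.Sd

open Cfsg.Agent.Blocks.Blau Cfsg.Agent.Blocks.Local Cfsg.Agent.Characters

universe u

variable {G : Type u} [Group G] [Finite G] {M : Ideal AlgInt}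

/-- the trivial character -/
noncomputable def one (G : Type u) [Group G] : IrrCharacter G := ⟨fun _ => 1, Blocks.Basic.isIrrCharacter_one⟩

theorem pair_one [Fintype G] (p : ℕ) (f : G → ℂ) : pair p f (fun _ : G => (1 : ℂ)) = ∑ g : G, regPart p f g := by
  rw [pair_def]
  refine Finset.sum_congr rfl fun x _ => ?_
  by_cases h : p ∣ orderOf x
  · rw [regPart_of_dvd h, regPart_of_dvd h, zero_mul]
  · rw [regPart_of_not_dvd h, regPart_of_not_dvd h, map_one, one_mul]

theorem pair_one_one [Fintype G] (p : ℕ) : pair p (fun _ : G => (1 : ℂ)) (fun _ : G => (1 : ℂ)) =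
    (Nat.card {x : G // ¬ p ∣ orderOf x} : ℂ) := by
  classical
  rw [pair_one, Nat.card_eq_fintype_card, Fintype.card_subtype, Finset.card_eq_sum_ones, Nat.cast_sum,
    Finset.sum_filter]
  refine Finset.sum_congr rfl fun x _ => ?_
  by_cases h : p ∣ orderOf x
  · rw [regPart_of_dvd h, if_neg (not_not.2 h)]
  · rw [regPart_of_not_dvd h, if_pos h, Nat.cast_one]

/-- **R1.** Membership in the principal block. -/
theorem mem_iff {p : ℕ} [hp : Fact p.Prime] (hM : IsPModular p M) [Fintype G] (χ : IrrCharacter G) :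
    χ ∈ principalBlock M G ↔ ∑ g : G, Blocks.Blau.regPart p (χ : G → ℂ) g ≠ 0 := by
  have hprime := isPrime_of_isPModular hM
  rw [← pair_one]
  constructor
  · intro h h0
    have h1 := pair_div_sub_pair_div hM (one G).2 χ.2 (Core.isIrr_isCharacter (one G).2) h
    have h2 : pair p (χ : G → ℂ) ((one G : IrrCharacter G) : G → ℂ) = 0 := h0
    have h3 : pair p ((one G : IrrCharacter G) : G → ℂ) ((one G : IrrCharacter G) : G → ℂ) =
      (Nat.card {x : G // ¬ p ∣ orderOf x} : ℂ) := pair_one_one p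
    have h4 : ((one G : IrrCharacter G) : G → ℂ) 1 = 1 := rfl
    rw [h2, h3, h4, zero_div, sub_zero, div_one, memLocalIdeal_natCast_iff hM] at h1
    exact Cfsg.Agent.Blocks.RegularCount.not_dvd_card_regular h1
  · intro h
    by_contra hχ
    apply h
    have hB : IsPBlock M (principalBlock M G) := ⟨one G, rfl⟩
    have h1 : (one G : IrrCharacter G) ∈ principalBlock M G := Blocks.PrincipalSection.one_mem_principalBlock
    have h2 := pair_eq_zero hM hB h1 hχ
    rw [pair_comm p (Core.isCharacter_apply_inv (Core.isIrr_isCharacter (one G).2))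
      (Core.isCharacter_apply_inv (Core.isIrr_isCharacter χ.2))] at h2
    exact h2

end Cfsg.Agent.H893.Sd
end

-- part: H116/RatB0/StB0
section
set_option linter.all false
open scoped Cfsg.Agent.FastGrp

/-!
# Alternating sums of permutation characters and the principal block (helper116)

`G` finite, `p` a prime, `χ = ∑_K (-1)^|K| 1_{P K}^G` irreducible of degree prime to `p`. If for every `K` either `p`
divides `|G : P K|` or the centralizer of some `p`-subgroup `Q ≤ P K` is contained in `P K`, then `χ` lies in the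
principal `p`-block.

* `sum_regPart_perm` : the sum of a permutation character over the `p`-regular elements;
* `reg_modEq` : `#{x ∈ H p-regular} = #{x ∈ H ∩ C(Q) p-regular}` modulo `p`;
* `mem_of_alt`.
-/

set_option autoImplicit false

namespace Cfsg.Agent.H116.RatB0

open Cfsg Subgroup Cfsg.Agent.Blocks.Blau

universe u

variable {G : Type u} [Group G] [Finite G]

/-- the number of `p`-regular elements of a subgroup -/
noncomputable def reg (p : ℕ) (H : Subgroup G) : ℕ := Nat.card {x : G // x ∈ H ∧ ¬ p ∣ orderOf x}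

theorem orderOf_conj' (g x : G) : orderOf (g * x * g⁻¹) = orderOf x := by
  have := (MulAut.conj g).orderOf_eq x
  rwa [MulAut.conj_apply] at this

/-- double counting -/
theorem card_sigma_fix (p : ℕ) (H : Subgroup G) :
    Nat.card (Σ x : {x : G // ¬ p ∣ orderOf x}, MulAction.fixedBy (G ⧸ H) x.1) = H.index * reg p H := by
  classical
  have : Fintype (G ⧸ H) := Fintype.ofFinite _
  have e : (Σ x : {x : G // ¬ p ∣ orderOf x}, MulAction.fixedBy (G ⧸ H) x.1) ≃
      (Σ ω : G ⧸ H, {x : G // x • ω = ω ∧ ¬ p ∣ orderOf x}) :=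
    { toFun := fun z => ⟨z.2.1, ⟨z.1.1, z.2.2, z.1.2⟩⟩
      invFun := fun z => ⟨⟨z.2.1, z.2.2.2⟩, ⟨z.1, z.2.2.1⟩⟩
      left_inv := fun z => rfl
      right_inv := fun z => rfl }
  rw [Nat.card_congr e, Nat.card_sigma]
  have h : ∀ ω : G ⧸ H, Nat.card {x : G // x • ω = ω ∧ ¬ p ∣ orderOf x} = reg p H := by
    intro ω
    obtain ⟨g, rfl⟩ := QuotientGroup.mk_surjective ω
    have key : ∀ x : G, x • (QuotientGroup.mk g : G ⧸ H) = QuotientGroup.mk g ↔ g⁻¹ * x * g ∈ H := by
      intro x
      rw [MulAction.Quotient.smul_mk, eq_comm, QuotientGroup.eq, smul_eq_mul, mul_assoc]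
    refine Nat.card_congr
      { toFun := fun x => ⟨g⁻¹ * x.1 * g, (key _).1 x.2.1, ?_⟩
        invFun := fun x => ⟨g * x.1 * g⁻¹, (key _).2 ?_, ?_⟩
        left_inv := fun x => Subtype.ext (by simp only; group)
        right_inv := fun x => Subtype.ext (by simp only; group) }
    · have h1 := orderOf_conj' g⁻¹ x.1
      rw [inv_inv] at h1
      rw [h1]
      exact x.2.2
    · have h1 : g⁻¹ * (g * x.1 * g⁻¹) * g = x.1 := by group
      rw [h1]
      exact x.2.1
    · rw [orderOf_conj']
      exact x.2.2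
  rw [Finset.sum_congr rfl fun ω _ => h ω, Finset.sum_const, Finset.card_univ, smul_eq_mul, Subgroup.index,
    Nat.card_eq_fintype_card]

/-- the sum of a permutation character over the `p`-regular elements -/
theorem sum_regPart_perm [Fintype G] (p : ℕ) (H : Subgroup G) :
    ∑ g : G, regPart p (fixedPointCharacter H) g = ((H.index * reg p H : ℕ) : ℂ) := by
  classical
  rw [← card_sigma_fix, Nat.card_sigma, Nat.cast_sum]
  have h1 : ∀ g : G, regPart p (fixedPointCharacter H) g =
      if ¬ p ∣ orderOf g then (Nat.card (MulAction.fixedBy (G ⧸ H) g) : ℂ) else 0 := by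
    intro g
    by_cases h : p ∣ orderOf g
    · rw [regPart_of_dvd h, if_neg (not_not.2 h)]
    · rw [regPart_of_not_dvd h, if_pos h]
      rfl
  rw [Finset.sum_congr rfl fun g _ => h1 g, ← Finset.sum_filter]
  exact (Finset.sum_subtype (Finset.univ.filter fun g : G => ¬ p ∣ orderOf g)
    (fun x => by rw [Finset.mem_filter]; exact ⟨fun h => h.2, fun h => ⟨Finset.mem_univ _, h⟩⟩)
    (fun g : G => (Nat.card (MulAction.fixedBy (G ⧸ H) g) : ℂ)))

/-- the `p`-group `Q ≤ H` acts on the `p`-regular elements of `H` -/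
theorem reg_modEq {p : ℕ} [hp : Fact p.Prime] {H Q : Subgroup G} (hQ : IsPGroup p Q) (hQH : Q ≤ H) :
    reg p H ≡ Nat.card {x : G // (x ∈ H ∧ x ∈ centralizer (Q : Set G)) ∧ ¬ p ∣ orderOf x} [MOD p] := by
  let X := {x : G // x ∈ H ∧ ¬ p ∣ orderOf x}
  let act : MulAction Q X :=
    { smul := fun g x => ⟨(g : G) * x.1 * (g : G)⁻¹,
        H.mul_mem (H.mul_mem (hQH g.2) x.2.1) (H.inv_mem (hQH g.2)), by rw [orderOf_conj']; exact x.2.2⟩
      one_smul := fun x => Subtype.ext (by
        show ((1 : Q) : G) * x.1 * ((1 : Q) : G)⁻¹ = x.1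
        rw [Subgroup.coe_one]; group)
      mul_smul := fun g h x => Subtype.ext (by
        show ((g * h : Q) : G) * x.1 * ((g * h : Q) : G)⁻¹ = (g : G) * ((h : G) * x.1 * (h : G)⁻¹) * (g : G)⁻¹
        rw [Subgroup.coe_mul]; group) }
  have h1 := hQ.card_modEq_card_fixedPoints X
  refine h1.trans ?_
  have h2 : Nat.card (MulAction.fixedPoints Q X) =
      Nat.card {x : G // (x ∈ H ∧ x ∈ centralizer (Q : Set G)) ∧ ¬ p ∣ orderOf x} := by
    refine Nat.card_congr
      { toFun := fun x => ⟨x.1.1, ⟨x.1.2.1, ?_⟩, x.1.2.2⟩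
        invFun := fun x => ⟨⟨x.1, x.2.1.1, x.2.2⟩, ?_⟩
        left_inv := fun x => rfl
        right_inv := fun x => rfl }
    · rw [mem_centralizer_iff]
      intro g hg
      have h3 := congrArg Subtype.val (x.2 ⟨g, hg⟩)
      have h4 : g * x.1.1 * g⁻¹ = x.1.1 := h3
      rw [← h4]
      have h5 : g * x.1.1 * g⁻¹ * g = g * x.1.1 := by group
      rw [h5, h4]
    · intro g
      apply Subtype.ext
      show (g : G) * x.1 * (g : G)⁻¹ = x.1
      have h3 := (mem_centralizer_iff.1 x.2.1.2) (g : G) g.2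
      rw [h3]
      group
  rw [h2]

theorem reg_modEq_of_le {p : ℕ} [hp : Fact p.Prime] {H Q : Subgroup G} (hQ : IsPGroup p Q) (hQH : Q ≤ H)
    (hC : centralizer (Q : Set G) ≤ H) : reg p H ≡ reg p (⊤ : Subgroup G) [MOD p] := by
  refine (reg_modEq hQ hQH).trans ((reg_modEq (H := ⊤) hQ le_top).trans ?_).symm
  have h : Nat.card {x : G // (x ∈ (⊤ : Subgroup G) ∧ x ∈ centralizer (Q : Set G)) ∧ ¬ p ∣ orderOf x} =
      Nat.card {x : G // (x ∈ H ∧ x ∈ centralizer (Q : Set G)) ∧ ¬ p ∣ orderOf x} :=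
    Nat.card_congr (Equiv.subtypeEquivRight fun x =>
      ⟨fun hx => ⟨⟨hC hx.1.2, hx.1.2⟩, hx.2⟩, fun hx => ⟨⟨mem_top x, hx.1.2⟩, hx.2⟩⟩)
  rw [h]

theorem reg_top (p : ℕ) : reg p (⊤ : Subgroup G) = Nat.card {x : G // ¬ p ∣ orderOf x} :=
  Nat.card_congr (Equiv.subtypeEquivRight fun x => ⟨fun h => h.2, fun h => ⟨mem_top x, h⟩⟩)

theorem sum_modEq {ι : Type*} (s : Finset ι) {n : ℤ} {f g : ι → ℤ} (h : ∀ i ∈ s, f i ≡ g i [ZMOD n]) :
    ∑ i ∈ s, f i ≡ ∑ i ∈ s, g i [ZMOD n] := by
  classical
  induction s using Finset.induction_on with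
  | empty => rw [Finset.sum_empty, Finset.sum_empty]
  | insert a s ha ih =>
    rw [Finset.sum_insert ha, Finset.sum_insert ha]
    exact (h a (Finset.mem_insert_self a s)).add (ih fun i hi => h i (Finset.mem_insert_of_mem hi))

/-- **Criterion.** An alternating sum of permutation characters lies in the principal block. -/
theorem mem_of_alt {p : ℕ} [hp : Fact p.Prime] {M : Ideal AlgInt} (hM : IsPModular p M) {ι : Type*} (s : Finset ι)
    (ε : ι → ℤ) (P : ι → Subgroup G) (χ : IrrCharacter G)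
    (hχ : ∀ g, (χ : G → ℂ) g = ∑ i ∈ s, (ε i : ℂ) * fixedPointCharacter (P i) g)
    (hdeg : ¬ p ∣ charDegree (χ : G → ℂ))
    (h : ∀ i ∈ s, p ∣ (P i).index ∨ reg p (P i) ≡ reg p (⊤ : Subgroup G) [MOD p]) :
    χ ∈ principalBlock M G := by
  classical
  have : Fintype G := Fintype.ofFinite G
  rw [H893.Sd.mem_iff hM]
  have h1 : ∑ g : G, regPart p (χ : G → ℂ) g = ((∑ i ∈ s, ε i * ((P i).index * reg p (P i) : ℕ) : ℤ) : ℂ) := by
    have h2 : ∀ g : G, regPart p (χ : G → ℂ) g = ∑ i ∈ s, (ε i : ℂ) * regPart p (fixedPointCharacter (P i)) g := by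
      intro g
      by_cases hg : p ∣ orderOf g
      · rw [regPart_of_dvd hg, Finset.sum_eq_zero]
        intro i _
        rw [regPart_of_dvd hg, mul_zero]
      · rw [regPart_of_not_dvd hg, hχ]
        refine Finset.sum_congr rfl fun i _ => ?_
        rw [regPart_of_not_dvd hg]
    rw [Finset.sum_congr rfl fun g _ => h2 g, Finset.sum_comm, Int.cast_sum]
    refine Finset.sum_congr rfl fun i _ => ?_
    rw [← Finset.mul_sum, sum_regPart_perm, Int.cast_mul, Int.cast_natCast]
  have h3 : (∑ i ∈ s, ε i * ((P i).index * reg p (P i) : ℕ) : ℤ) ≡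
      (reg p (⊤ : Subgroup G) : ℤ) * (charDegree (χ : G → ℂ) : ℤ) [ZMOD p] := by
    have h4 : (charDegree (χ : G → ℂ) : ℤ) = ∑ i ∈ s, ε i * ((P i).index : ℤ) := by
      have h5 : ((charDegree (χ : G → ℂ) : ℤ) : ℂ) = ((∑ i ∈ s, ε i * ((P i).index : ℤ) : ℤ) : ℂ) := by
        have h6 := hχ 1
        rw [Int.cast_sum, Int.cast_natCast]
        have h7 : (charDegree (χ : G → ℂ) : ℂ) = (χ : G → ℂ) 1 :=
          (Blocks.Knorr.charDegree_eq χ.2).symm
        rw [h7, h6]
        refine Finset.sum_congr rfl fun i _ => ?_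
        rw [H139.Degree.fixedPointCharacter_one, Int.cast_mul, Int.cast_natCast]
        rfl
      exact_mod_cast h5
    rw [h4, Finset.mul_sum]
    have h5 : ∀ i ∈ s, ε i * ((P i).index * reg p (P i) : ℕ) ≡
        (reg p (⊤ : Subgroup G) : ℤ) * (ε i * ((P i).index : ℤ)) [ZMOD p] := by
      intro i hi
      rcases h i hi with h6 | h6
      · refine Int.ModEq.trans (b := 0) (Int.modEq_zero_iff_dvd.2 ?_) (Int.modEq_zero_iff_dvd.2 ?_).symm
        · exact Dvd.dvd.mul_left (Int.natCast_dvd_natCast.2 (Dvd.dvd.mul_right h6 _)) _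
        · exact Dvd.dvd.mul_left (Dvd.dvd.mul_left (Int.natCast_dvd_natCast.2 h6) _) _
      · have h7 : (reg p (P i) : ℤ) ≡ (reg p (⊤ : Subgroup G) : ℤ) [ZMOD p] := (Int.natCast_modEq_iff).2 h6
        have h8 := (h7.mul_left (ε i * ((P i).index : ℤ)))
        have e1 : ε i * ((P i).index * reg p (P i) : ℕ) = ε i * ((P i).index : ℤ) * (reg p (P i) : ℤ) := by
          push_cast; ring
        have e2 : (reg p (⊤ : Subgroup G) : ℤ) * (ε i * ((P i).index : ℤ)) =
          ε i * ((P i).index : ℤ) * (reg p (⊤ : Subgroup G) : ℤ) := by ring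
        rw [e1, e2]
        exact h8
    exact sum_modEq s h5
  intro h0
  rw [h1] at h0
  have h5 : (∑ i ∈ s, ε i * ((P i).index * reg p (P i) : ℕ) : ℤ) = 0 := by exact_mod_cast h0
  rw [h5] at h3
  have h6 : (p : ℤ) ∣ (reg p (⊤ : Subgroup G) : ℤ) * (charDegree (χ : G → ℂ) : ℤ) :=
    (Int.modEq_zero_iff_dvd).1 h3.symm
  rw [← Nat.cast_mul, Int.natCast_dvd_natCast, hp.out.dvd_mul] at h6
  rcases h6 with h6 | h6
  · rw [reg_top] at h6
    exact Cfsg.Agent.Blocks.RegularCount.not_dvd_card_regular h6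
  · exact hdeg h6

end Cfsg.Agent.H116.RatB0
end
end
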