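import Cfsg.Agent.H116.RatB0.StExc_m3
import Cfsg.Agent.H145.BR.Table_m3
import Cfsg.Agent.S2378
import Cfsg.Agent.Prune
set_option linter.all false
prune_inst 0x7f00000000000000000000000000000000000000000000000000000000000000000000000000000000000000000000000000000000000000000000000000000000000000000000000000000000000000003fffffffffffffffffffffffffffbeffbdffffffff
open scoped Cfsg.Agent.FastGrp

/-!
# The rows `e8`, `f4`, `g2` of S4891, up to the case `p ∣ q - 1` (helper116)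

`cyclic_of_cnt` : (S2378) the Sylow `p`-subgroups are cyclic if only one degree is a multiple of `ord_p(q)`.
-/

set_option autoImplicit false
set_option linter.unusedSectionVars false

namespace Cfsg.Agent.H116.RatB0

open Cfsg Cfsg.Lie Cfsg.Agent.H35.PoinNum
open Cfsg.Agent.H145.BR (RowInt RowT RowForT)

theorem not_dvd_prod {p d P : ℕ} [hp : Fact p.Prime] (hP : P ∣ 210 ^ 20) (hd : d ∣ p - 1)
    (h : ¬ d ∣ 1 ∧ ¬ d ∣ 2 ∧ ¬ d ∣ 4 ∧ ¬ d ∣ 6) : ¬ p ∣ P := by
  intro h1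
  have h2 : p ∣ 210 := hp.out.dvd_of_dvd_pow (h1.trans hP)
  have h3 : p ∣ 2 * 3 * 5 * 7 := by norm_num; exact h2
  obtain ⟨h4, h5, h6, h7⟩ := h
  have h8 : p = 2 ∨ p = 3 ∨ p = 5 ∨ p = 7 := by
    rcases hp.out.dvd_mul.1 h3 with h3 | h3
    · rcases hp.out.dvd_mul.1 h3 with h3 | h3
      · rcases hp.out.dvd_mul.1 h3 with h3 | h3
        · exact Or.inl ((Nat.prime_dvd_prime_iff_eq hp.out (by norm_num)).1 h3)
        · exact Or.inr (Or.inl ((Nat.prime_dvd_prime_iff_eq hp.out (by norm_num)).1 h3))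
      · exact Or.inr (Or.inr (Or.inl ((Nat.prime_dvd_prime_iff_eq hp.out (by norm_num)).1 h3)))
    · exact Or.inr (Or.inr (Or.inr ((Nat.prime_dvd_prime_iff_eq hp.out (by norm_num)).1 h3)))
  rcases h8 with rfl | rfl | rfl | rfl
  · exact h4 hd
  · exact h5 hd
  · exact h6 hd
  · exact h7 hd

theorem not_dvd_card {p : ℕ} [hp : Fact p.Prime] {K : Type*} [Field K] [Fintype K] (hpK : (p : K) ≠ 0) :
    ¬ p ∣ Fintype.card K := by
  obtain ⟨r, f, _, hr, hf, hK⟩ := exists_pow K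
  rw [hK]
  intro h
  exact ne_of_cast K hpK ((Nat.prime_dvd_prime_iff_eq hp.out hr).1 (hp.out.dvd_of_dvd_pow h))

theorem ord_dvd {p q : ℕ} [hp : Fact p.Prime] (h : ¬ p ∣ q) : orderOf (q : ZMod p) ∣ p - 1 := by
  have h0 : (q : ZMod p) ≠ 0 := fun h1 => h ((ZMod.natCast_eq_zero_iff q p).1 h1)
  exact orderOf_dvd_of_pow_eq_one (ZMod.pow_card_sub_one_eq_one h0)

theorem dvd_of_ord_one {p q : ℕ} [hp : Fact p.Prime] (hq : 1 ≤ q) (h : orderOf (q : ZMod p) = 1) : p ∣ q - 1 := by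
  rw [orderOf_eq_one_iff] at h
  rw [← ZMod.natCast_eq_zero_iff, Nat.cast_sub hq, h, Nat.cast_one, sub_self]

/-- the Sylow subgroups for primes with only one degree -/
theorem cyclic_of_cnt {F : Type*} [Field F] [Fintype F] {D : ChevalleyDatum} {L : List ℕ}
    (hc : (D, L) ∈ [(chevG2, [2, 6]), (chevB2, [2, 4]), (chevD4, [2, 4, 4, 6]), (chevF4, [2, 6, 8, 12]),
      (chevE6, [2, 5, 6, 8, 9, 12]), (chevE7, [2, 6, 8, 10, 12, 14, 18]), (chevE8, [2, 8, 12, 14, 18, 20, 24, 30])])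
    {p : ℕ} [hp : Fact p.Prime] (hpF : (p : F) ≠ 0) {d : ℕ} (hd : orderOf ((Fintype.card F : ℕ) : ZMod p) = d)
    (hP : L.prod ∣ 210 ^ 20) (h : ¬ d ∣ 1 ∧ ¬ d ∣ 2 ∧ ¬ d ∣ 4 ∧ ¬ d ∣ 6)
    (hG : p ∣ Nat.card ↥(D.group F)) (h1 : (L.filter (fun e => d ∣ e)).length = 1) (P : Sylow p ↥(D.group F)) :
    IsCyclic P := by
  have hq := not_dvd_card hpF
  obtain ⟨e⟩ := Cfsg.Agent.S2378.result (F := F) rfl (D, L) hc p hq
    (not_dvd_prod hP (hd ▸ ord_dvd hq) h) hG P
  have h2 : (L.filter (fun e => orderOf ((Fintype.card F : ℕ) : ZMod p) ∣ e)).length = 1 := by rw [hd]; exact h1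
  have h3 : ∀ n m : ℕ, n = 1 → IsCyclic (Fin n → Multiplicative (ZMod m)) := by
    rintro n m rfl
    exact isCyclic_of_surjective (MulEquiv.piUnique (fun _ : Fin 1 => Multiplicative (ZMod m))).symm
      (MulEquiv.surjective _)
  have := h3 _ (p ^ padicValNat p ((Polynomial.cyclotomic (orderOf ((Fintype.card F : ℕ) : ZMod p)) ℤ).eval
    ((Fintype.card F : ℕ) : ℤ)).natAbs) h2
  exact isCyclic_of_surjective e.symm e.symm.surjective


section Rows

variable {p : ℕ} [hp : Fact p.Prime]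

theorem ord_cases_E8 {F : Type} [Field F] [Fintype F] (hpF : (p : F) ≠ 0)
    (hG : p ∣ Nat.card ↥(chevE8.group F)) (hc : ∀ P : Sylow p ↥(chevE8.group F), ¬ IsCyclic P) :
    orderOf ((Fintype.card F : ℕ) : ZMod p) ∈ [1, 2, 3, 4, 5, 6, 8, 10, 12] := by
  have hq := not_dvd_card hpF
  have h1q : 1 ≤ Fintype.card F := Fintype.card_pos
  have h2 : 0 < cnt [2, 8, 12, 14, 18, 20, 24, 30] (orderOf ((Fintype.card F : ℕ) : ZMod p)) := by
    refine cnt_pos_of_dvd ?_ h1q
    have h3 := Cfsg.Agent.S1065.result (F := F) rfl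
    have h4 : Nat.card ↥(chevE8.group F) = Fintype.card F ^ 120 * pr (Fintype.card F) [2, 8, 12, 14, 18, 20, 24, 30] := by
      simp only [pr_cons, pr_nil]
      rw [h3]
      ring
    have h5 : p ∣ Fintype.card F ^ 120 * pr (Fintype.card F) [2, 8, 12, 14, 18, 20, 24, 30] := by
      rw [← h4]
      exact hG
    exact (hp.out.dvd_mul.1 h5).resolve_left fun h6 => hq (hp.out.dvd_of_dvd_pow h6)
  have h31 : orderOf ((Fintype.card F : ℕ) : ZMod p) < 31 := by
    by_contra hcon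
    push Not at hcon
    have h6 : ∀ e ∈ ([2, 8, 12, 14, 18, 20, 24, 30] : List ℕ), ¬ orderOf ((Fintype.card F : ℕ) : ZMod p) ∣ e := by
      intro e he h7
      have h8 := Nat.le_of_dvd (by clear h7; revert e; decide) h7
      have h9 : e < 31 := by clear h7 h8; revert e; decide
      omega
    rw [cnt, List.countP_pos_iff] at h2
    obtain ⟨e, he, h7⟩ := h2
    exact h6 e he (by simpa only [_root_.decide_eq_true_eq] using h7)
  have key : ∀ d < 31, 0 < cnt [2, 8, 12, 14, 18, 20, 24, 30] d → d ∈ [1, 2, 3, 4, 5, 6, 8, 10, 12] ∨ (([2, 8, 12, 14, 18, 20, 24, 30].filter (fun e => d ∣ e)).length = 1 ∧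
      ¬ d ∣ 1 ∧ ¬ d ∣ 2 ∧ ¬ d ∣ 4 ∧ ¬ d ∣ 6) := by decide +kernel
  rcases key _ h31 h2 with h3 | ⟨h3, h4⟩
  · exact h3
  · obtain ⟨P⟩ : Nonempty (Sylow p ↥(chevE8.group F)) := inferInstance
    exact absurd (cyclic_of_cnt (by simp only [_root_.List.mem_cons, _root_.Prod.mk.injEq, _root_.List.cons.injEq, _root_.Nat.reduceEqDiff, _root_.reduceCtorEq, _root_.and_self, _root_.and_false, _root_.List.cons_ne_self, _root_.List.not_mem_nil, _root_.or_false, _root_.or_true]) hpF rfl (by norm_num) h4 hG h3 P) (hc P)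

theorem ord_cases_E7 {F : Type} [Field F] [Fintype F] (hpF : (p : F) ≠ 0)
    (hG : p ∣ Nat.card ↥(chevE7.group F)) (hc : ∀ P : Sylow p ↥(chevE7.group F), ¬ IsCyclic P) :
    orderOf ((Fintype.card F : ℕ) : ZMod p) ∈ [1, 2, 3, 4, 6] := by
  have hq := not_dvd_card hpF
  have h1q : 1 ≤ Fintype.card F := Fintype.card_pos
  have h2 : 0 < cnt [2, 6, 8, 10, 12, 14, 18] (orderOf ((Fintype.card F : ℕ) : ZMod p)) := by
    refine cnt_pos_of_dvd ?_ h1q
    have h3 := Cfsg.Agent.S1064.result (F := F) rfl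
    have h4 : Nat.gcd 2 (Fintype.card F - 1) * Nat.card ↥(chevE7.group F) = Fintype.card F ^ 63 * pr (Fintype.card F) [2, 6, 8, 10, 12, 14, 18] := by
      simp only [pr_cons, pr_nil]
      rw [h3]
      ring
    have h5 : p ∣ Fintype.card F ^ 63 * pr (Fintype.card F) [2, 6, 8, 10, 12, 14, 18] := by
      rw [← h4]
      exact Dvd.dvd.mul_left hG _
    exact (hp.out.dvd_mul.1 h5).resolve_left fun h6 => hq (hp.out.dvd_of_dvd_pow h6)
  have h31 : orderOf ((Fintype.card F : ℕ) : ZMod p) < 31 := by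
    by_contra hcon
    push Not at hcon
    have h6 : ∀ e ∈ ([2, 6, 8, 10, 12, 14, 18] : List ℕ), ¬ orderOf ((Fintype.card F : ℕ) : ZMod p) ∣ e := by
      intro e he h7
      have h8 := Nat.le_of_dvd (by clear h7; revert e; decide) h7
      have h9 : e < 31 := by clear h7 h8; revert e; decide
      omega
    rw [cnt, List.countP_pos_iff] at h2
    obtain ⟨e, he, h7⟩ := h2
    exact h6 e he (by simpa only [_root_.decide_eq_true_eq] using h7)
  have key : ∀ d < 31, 0 < cnt [2, 6, 8, 10, 12, 14, 18] d → d ∈ [1, 2, 3, 4, 6] ∨ (([2, 6, 8, 10, 12, 14, 18].filter (fun e => d ∣ e)).length = 1 ∧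
      ¬ d ∣ 1 ∧ ¬ d ∣ 2 ∧ ¬ d ∣ 4 ∧ ¬ d ∣ 6) := by decide +kernel
  rcases key _ h31 h2 with h3 | ⟨h3, h4⟩
  · exact h3
  · obtain ⟨P⟩ : Nonempty (Sylow p ↥(chevE7.group F)) := inferInstance
    exact absurd (cyclic_of_cnt (by simp) hpF rfl (by norm_num) h4 hG h3 P) (hc P)

theorem ord_cases_E6 {F : Type} [Field F] [Fintype F] (hpF : (p : F) ≠ 0)
    (hG : p ∣ Nat.card ↥(chevE6.group F)) (hc : ∀ P : Sylow p ↥(chevE6.group F), ¬ IsCyclic P) :
    orderOf ((Fintype.card F : ℕ) : ZMod p) ∈ [1, 2, 3, 4, 6] := by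
  have hq := not_dvd_card hpF
  have h1q : 1 ≤ Fintype.card F := Fintype.card_pos
  have h2 : 0 < cnt [2, 5, 6, 8, 9, 12] (orderOf ((Fintype.card F : ℕ) : ZMod p)) := by
    refine cnt_pos_of_dvd ?_ h1q
    have h3 := Cfsg.Agent.S1063.result (F := F) rfl
    have h4 : Nat.gcd 3 (Fintype.card F - 1) * Nat.card ↥(chevE6.group F) = Fintype.card F ^ 36 * pr (Fintype.card F) [2, 5, 6, 8, 9, 12] := by
      simp only [pr_cons, pr_nil]
      rw [h3]
      ring
    have h5 : p ∣ Fintype.card F ^ 36 * pr (Fintype.card F) [2, 5, 6, 8, 9, 12] := by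
      rw [← h4]
      exact Dvd.dvd.mul_left hG _
    exact (hp.out.dvd_mul.1 h5).resolve_left fun h6 => hq (hp.out.dvd_of_dvd_pow h6)
  have h31 : orderOf ((Fintype.card F : ℕ) : ZMod p) < 31 := by
    by_contra hcon
    push Not at hcon
    have h6 : ∀ e ∈ ([2, 5, 6, 8, 9, 12] : List ℕ), ¬ orderOf ((Fintype.card F : ℕ) : ZMod p) ∣ e := by
      intro e he h7
      have h8 := Nat.le_of_dvd (by clear h7; revert e; decide) h7
      have h9 : e < 31 := by clear h7 h8; revert e; decide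
      omega
    rw [cnt, List.countP_pos_iff] at h2
    obtain ⟨e, he, h7⟩ := h2
    exact h6 e he (by simpa only [_root_.decide_eq_true_eq] using h7)
  have key : ∀ d < 31, 0 < cnt [2, 5, 6, 8, 9, 12] d → d ∈ [1, 2, 3, 4, 6] ∨ (([2, 5, 6, 8, 9, 12].filter (fun e => d ∣ e)).length = 1 ∧
      ¬ d ∣ 1 ∧ ¬ d ∣ 2 ∧ ¬ d ∣ 4 ∧ ¬ d ∣ 6) := by decide +kernel
  rcases key _ h31 h2 with h3 | ⟨h3, h4⟩
  · exact h3
  · obtain ⟨P⟩ : Nonempty (Sylow p ↥(chevE6.group F)) := inferInstance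
    exact absurd (cyclic_of_cnt (by simp) hpF rfl (by norm_num) h4 hG h3 P) (hc P)

theorem ord_cases_F4 {F : Type} [Field F] [Fintype F] (hpF : (p : F) ≠ 0)
    (hG : p ∣ Nat.card ↥(chevF4.group F)) (hc : ∀ P : Sylow p ↥(chevF4.group F), ¬ IsCyclic P) :
    orderOf ((Fintype.card F : ℕ) : ZMod p) ∈ [1, 2, 3, 4, 6] := by
  have hq := not_dvd_card hpF
  have h1q : 1 ≤ Fintype.card F := Fintype.card_pos
  have h2 : 0 < cnt [2, 6, 8, 12] (orderOf ((Fintype.card F : ℕ) : ZMod p)) := by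
    refine cnt_pos_of_dvd ?_ h1q
    have h3 := Cfsg.Agent.S1062.result (F := F) rfl
    have h4 : Nat.card ↥(chevF4.group F) = Fintype.card F ^ 24 * pr (Fintype.card F) [2, 6, 8, 12] := by
      simp only [pr_cons, pr_nil]
      rw [h3]
      ring
    have h5 : p ∣ Fintype.card F ^ 24 * pr (Fintype.card F) [2, 6, 8, 12] := by
      rw [← h4]
      exact hG
    exact (hp.out.dvd_mul.1 h5).resolve_left fun h6 => hq (hp.out.dvd_of_dvd_pow h6)
  have h31 : orderOf ((Fintype.card F : ℕ) : ZMod p) < 31 := by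
    by_contra hcon
    push Not at hcon
    have h6 : ∀ e ∈ ([2, 6, 8, 12] : List ℕ), ¬ orderOf ((Fintype.card F : ℕ) : ZMod p) ∣ e := by
      intro e he h7
      have h8 := Nat.le_of_dvd (by clear h7; revert e; decide) h7
      have h9 : e < 31 := by clear h7 h8; revert e; decide
      omega
    rw [cnt, List.countP_pos_iff] at h2
    obtain ⟨e, he, h7⟩ := h2
    exact h6 e he (by simpa only [_root_.decide_eq_true_eq] using h7)
  have key : ∀ d < 31, 0 < cnt [2, 6, 8, 12] d → d ∈ [1, 2, 3, 4, 6] ∨ (([2, 6, 8, 12].filter (fun e => d ∣ e)).length = 1 ∧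
      ¬ d ∣ 1 ∧ ¬ d ∣ 2 ∧ ¬ d ∣ 4 ∧ ¬ d ∣ 6) := by decide
  rcases key _ h31 h2 with h3 | ⟨h3, h4⟩
  · exact h3
  · obtain ⟨P⟩ : Nonempty (Sylow p ↥(chevF4.group F)) := inferInstance
    exact absurd (cyclic_of_cnt (by simp) hpF rfl (by norm_num) h4 hG h3 P) (hc P)

theorem ord_cases_G2 {F : Type} [Field F] [Fintype F] (hpF : (p : F) ≠ 0)
    (hG : p ∣ Nat.card ↥(chevG2.group F)) (hc : ∀ P : Sylow p ↥(chevG2.group F), ¬ IsCyclic P) :
    orderOf ((Fintype.card F : ℕ) : ZMod p) ∈ [1, 2, 3, 6] := by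
  have hq := not_dvd_card hpF
  have h1q : 1 ≤ Fintype.card F := Fintype.card_pos
  have h2 : 0 < cnt [2, 6] (orderOf ((Fintype.card F : ℕ) : ZMod p)) := by
    refine cnt_pos_of_dvd ?_ h1q
    have h3 := Cfsg.Agent.S1059.result (F := F) rfl
    have h4 : Nat.card ↥(chevG2.group F) = Fintype.card F ^ 6 * pr (Fintype.card F) [2, 6] := by
      simp only [pr_cons, pr_nil]
      rw [h3]
      ring
    have h5 : p ∣ Fintype.card F ^ 6 * pr (Fintype.card F) [2, 6] := by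
      rw [← h4]
      exact hG
    exact (hp.out.dvd_mul.1 h5).resolve_left fun h6 => hq (hp.out.dvd_of_dvd_pow h6)
  have h31 : orderOf ((Fintype.card F : ℕ) : ZMod p) < 31 := by
    by_contra hcon
    push Not at hcon
    have h6 : ∀ e ∈ ([2, 6] : List ℕ), ¬ orderOf ((Fintype.card F : ℕ) : ZMod p) ∣ e := by
      intro e he h7
      have h8 := Nat.le_of_dvd (by clear h7; revert e; decide) h7
      have h9 : e < 31 := by clear h7 h8; revert e; decide
      omega
    rw [cnt, List.countP_pos_iff] at h2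
    obtain ⟨e, he, h7⟩ := h2
    exact h6 e he (by simpa only [_root_.decide_eq_true_eq] using h7)
  have key : ∀ d < 31, 0 < cnt [2, 6] d → d ∈ [1, 2, 3, 6] ∨ (([2, 6].filter (fun e => d ∣ e)).length = 1 ∧
      ¬ d ∣ 1 ∧ ¬ d ∣ 2 ∧ ¬ d ∣ 4 ∧ ¬ d ∣ 6) := by decide
  rcases key _ h31 h2 with h3 | ⟨h3, h4⟩
  · exact h3
  · obtain ⟨P⟩ : Nonempty (Sylow p ↥(chevG2.group F)) := inferInstance
    exact absurd (cyclic_of_cnt (by simp) hpF rfl (by norm_num) h4 hG h3 P) (hc P)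

/-- the row `e8`, given the case `p ∣ q - 1` -/
theorem row_E8_of (h1 : ∀ (F : Type) [Field F] [Fintype F], (p : F) ≠ 0 → p ∣ Fintype.card F - 1 →
    RowInt p (chevE8.group F)) : RowForT p (fun X _ => ∃ (F : Type) (_ : Field F) (_ : Fintype F), (p : F) ≠ 0 ∧ 
      Nonempty (X ≃* Lie.chevE8.group F)) := by
  intro X _ _ _ _ hd hc hX
  obtain ⟨F, _, _, hpF, ⟨e⟩⟩ := hX
  have hG : p ∣ Nat.card ↥(chevE8.group F) := by rwa [← Nat.card_congr e.toEquiv]
  have hc' : ∀ P : Sylow p ↥(chevE8.group F), ¬ IsCyclic P := by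
    intro P hP
    have hfin : Finite ↥(chevE8.group F) := Finite.of_equiv _ e.toEquiv
    obtain ⟨P₀⟩ : Nonempty (Sylow p X) := inferInstance
    refine hc P₀ ?_
    have h5 : Nat.card P₀ = Nat.card P := by
      rw [P₀.card_eq_multiplicity, P.card_eq_multiplicity, Nat.card_congr e.toEquiv]
    let P₁ : Sylow p ↥(chevE8.group F) := Sylow.ofCard ((P₀ : Subgroup X).map e.toMonoidHom) (by
      rw [Subgroup.card_map_of_injective e.injective, P₀.card_eq_multiplicity, Nat.card_congr e.toEquiv])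
    have h6 : IsCyclic P₁ := (P.equiv P₁).isCyclic.1 hP
    have h7 : P₀ ≃* P₁ := (P₀ : Subgroup X).equivMapOfInjective e.toMonoidHom e.injective
    exact h7.isCyclic.2 h6
  have h2 := ord_cases_E8 hpF hG hc'
  refine RowT.congr e (RowInt.rowT ?_)
  by_cases h4 : orderOf ((Fintype.card F : ℕ) : ZMod p) = 1
  · exact h1 F hpF (dvd_of_ord_one Fintype.card_pos h4)
  · refine rowInt_E8_of_dvd hpF (m := orderOf ((Fintype.card F : ℕ) : ZMod p)) ?_ (dvd_E (not_dvd_card hpF))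
    clear hc' hG
    generalize orderOf ((Fintype.card F : ℕ) : ZMod p) = d at h2 h4
    revert d
    decide

/-- the row `f4`, given the case `p ∣ q - 1` -/
theorem row_F4_of (h1 : ∀ (F : Type) [Field F] [Fintype F], (p : F) ≠ 0 → p ∣ Fintype.card F - 1 →
    RowInt p (chevF4.group F)) : RowForT p (fun X _ => ∃ (F : Type) (_ : Field F) (_ : Fintype F), (p : F) ≠ 0 ∧ 
      Nonempty (X ≃* Lie.chevF4.group F)) := by
  intro X _ _ _ _ hd hc hX
  obtain ⟨F, _, _, hpF, ⟨e⟩⟩ := hX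
  have hG : p ∣ Nat.card ↥(chevF4.group F) := by rwa [← Nat.card_congr e.toEquiv]
  have hc' : ∀ P : Sylow p ↥(chevF4.group F), ¬ IsCyclic P := by
    intro P hP
    have hfin : Finite ↥(chevF4.group F) := Finite.of_equiv _ e.toEquiv
    obtain ⟨P₀⟩ : Nonempty (Sylow p X) := inferInstance
    refine hc P₀ ?_
    have h5 : Nat.card P₀ = Nat.card P := by
      rw [P₀.card_eq_multiplicity, P.card_eq_multiplicity, Nat.card_congr e.toEquiv]
    let P₁ : Sylow p ↥(chevF4.group F) := Sylow.ofCard ((P₀ : Subgroup X).map e.toMonoidHom) (by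
      rw [Subgroup.card_map_of_injective e.injective, P₀.card_eq_multiplicity, Nat.card_congr e.toEquiv])
    have h6 : IsCyclic P₁ := (P.equiv P₁).isCyclic.1 hP
    have h7 : P₀ ≃* P₁ := (P₀ : Subgroup X).equivMapOfInjective e.toMonoidHom e.injective
    exact h7.isCyclic.2 h6
  have h2 := ord_cases_F4 hpF hG hc'
  refine RowT.congr e (RowInt.rowT ?_)
  by_cases h4 : orderOf ((Fintype.card F : ℕ) : ZMod p) = 1
  · exact h1 F hpF (dvd_of_ord_one Fintype.card_pos h4)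
  · refine rowInt_F4_of_dvd hpF (m := orderOf ((Fintype.card F : ℕ) : ZMod p)) ?_ (dvd_E (not_dvd_card hpF))
    clear hc' hG
    generalize orderOf ((Fintype.card F : ℕ) : ZMod p) = d at h2 h4
    revert d
    decide

/-- the row `g2`, given the case `p ∣ q - 1` -/
theorem row_G2_of (h1 : ∀ (F : Type) [Field F] [Fintype F], (p : F) ≠ 0 → 3 ≤ Fintype.card F → p ∣ Fintype.card F - 1 →
    RowInt p (chevG2.group F)) : RowForT p (fun X _ => ∃ (F : Type) (_ : Field F) (_ : Fintype F), (p : F) ≠ 0 ∧ 3 ≤ Fintype.card F ∧ 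
      Nonempty (X ≃* Lie.chevG2.group F)) := by
  intro X _ _ _ _ hd hc hX
  obtain ⟨F, _, _, hpF, h3, ⟨e⟩⟩ := hX
  have hG : p ∣ Nat.card ↥(chevG2.group F) := by rwa [← Nat.card_congr e.toEquiv]
  have hc' : ∀ P : Sylow p ↥(chevG2.group F), ¬ IsCyclic P := by
    intro P hP
    have hfin : Finite ↥(chevG2.group F) := Finite.of_equiv _ e.toEquiv
    obtain ⟨P₀⟩ : Nonempty (Sylow p X) := inferInstance
    refine hc P₀ ?_
    have h5 : Nat.card P₀ = Nat.card P := by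
      rw [P₀.card_eq_multiplicity, P.card_eq_multiplicity, Nat.card_congr e.toEquiv]
    let P₁ : Sylow p ↥(chevG2.group F) := Sylow.ofCard ((P₀ : Subgroup X).map e.toMonoidHom) (by
      rw [Subgroup.card_map_of_injective e.injective, P₀.card_eq_multiplicity, Nat.card_congr e.toEquiv])
    have h6 : IsCyclic P₁ := (P.equiv P₁).isCyclic.1 hP
    have h7 : P₀ ≃* P₁ := (P₀ : Subgroup X).equivMapOfInjective e.toMonoidHom e.injective
    exact h7.isCyclic.2 h6
  have h2 := ord_cases_G2 hpF hG hc'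
  refine RowT.congr e (RowInt.rowT ?_)
  by_cases h4 : orderOf ((Fintype.card F : ℕ) : ZMod p) = 1
  · exact h1 F hpF h3 (dvd_of_ord_one Fintype.card_pos h4)
  · refine rowInt_G2_of_dvd hpF (m := orderOf ((Fintype.card F : ℕ) : ZMod p)) ?_ (dvd_E (not_dvd_card hpF))
    clear hc' hG
    generalize orderOf ((Fintype.card F : ℕ) : ZMod p) = d at h2 h4
    revert d
    decide

end Rows

end Cfsg.Agent.H116.RatB0
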